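import Mathlib
import Groth.Prelude.Def_Koszul

/-!
# Elements of Koszul complexes
-/

set_option autoImplicit false
set_option linter.unusedSectionVars false
set_option backward.isDefEq.respectTransparency false
universe u

open CategoryTheory CategoryTheory.Limits CochainComplex

namespace Groth.Agent.CECharPLib

variable {A : Type u} [CommRing A]

section Cone

variable (f : A) (l : List A)

/-- The multiplication whose cone is taken. -/
noncomputable abbrev kmul : Koszul.koszul A l ⟶ Koszul.koszul A l := f • 𝟙 (Koszul.koszul A l)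

noncomputable def cfst (i j : ℤ) (h : i + 1 = j) :
    (Koszul.koszul A (f :: l)).X i →ₗ[A] (Koszul.koszul A l).X j :=
  ((mappingCone.fst (kmul f l)).1.v i j h).hom

noncomputable def csnd (i : ℤ) : (Koszul.koszul A (f :: l)).X i →ₗ[A] (Koszul.koszul A l).X i :=
  ((mappingCone.snd (kmul f l)).v i i (add_zero i)).hom

noncomputable def cinl (i j : ℤ) (h : i + 1 = j) :
    (Koszul.koszul A l).X j →ₗ[A] (Koszul.koszul A (f :: l)).X i :=
  ((mappingCone.inl (kmul f l)).v j i (by omega)).hom

noncomputable def cinr (i : ℤ) : (Koszul.koszul A l).X i →ₗ[A] (Koszul.koszul A (f :: l)).X i :=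
  ((mappingCone.inr (kmul f l)).f i).hom

variable {f l} {i j k : ℤ}

@[simp] theorem cfst_cinl (h : i + 1 = j) (a : (Koszul.koszul A l).X j) : cfst f l i j h (cinl f l i j h a) = a := by
  show ((mappingCone.inl (kmul f l)).v j i _ ≫ (mappingCone.fst (kmul f l)).1.v i j h).hom a = a
  rw [mappingCone.inl_v_fst_v]; rfl

@[simp] theorem csnd_cinl (h : i + 1 = j) (a : (Koszul.koszul A l).X j) : csnd f l i (cinl f l i j h a) = 0 := by
  show ((mappingCone.inl (kmul f l)).v j i _ ≫ (mappingCone.snd (kmul f l)).v i i (add_zero i)).hom a = 0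
  rw [mappingCone.inl_v_snd_v]; rfl

@[simp] theorem cfst_cinr (h : i + 1 = j) (a : (Koszul.koszul A l).X i) : cfst f l i j h (cinr f l i a) = 0 := by
  show ((mappingCone.inr (kmul f l)).f i ≫ (mappingCone.fst (kmul f l)).1.v i j h).hom a = 0
  rw [mappingCone.inr_f_fst_v]; rfl

@[simp] theorem csnd_cinr (a : (Koszul.koszul A l).X i) : csnd f l i (cinr f l i a) = a := by
  show ((mappingCone.inr (kmul f l)).f i ≫ (mappingCone.snd (kmul f l)).v i i (add_zero i)).hom a = a
  rw [mappingCone.inr_f_snd_v]; rfl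

theorem ckos_decomp (h : i + 1 = j) (z : (Koszul.koszul A (f :: l)).X i) :
    cinl f l i j h (cfst f l i j h z) + cinr f l i (csnd f l i z) = z := by
  show ((mappingCone.fst (kmul f l)).1.v i j h ≫ (mappingCone.inl (kmul f l)).v j i (by omega) +
    (mappingCone.snd (kmul f l)).v i i (add_zero i) ≫ (mappingCone.inr (kmul f l)).f i).hom z = z
  rw [mappingCone.id_X]; rfl

theorem ckos_ext (h : i + 1 = j) {z w : (Koszul.koszul A (f :: l)).X i}
    (h1 : cfst f l i j h z = cfst f l i j h w) (h2 : csnd f l i z = csnd f l i w) : z = w := by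
  rw [← ckos_decomp h z, ← ckos_decomp h w, h1, h2]

theorem cfst_d (h : i + 1 = j) (h' : j + 1 = k) (z : (Koszul.koszul A (f :: l)).X i) :
    cfst f l j k h' ((Koszul.koszul A (f :: l)).d i j z) = - (Koszul.koszul A l).d j k (cfst f l i j h z) := by
  show ((mappingCone (kmul f l)).d i j ≫ (mappingCone.fst (kmul f l)).1.v j k h').hom z = _
  rw [mappingCone.d_fst_v (kmul f l) i j k h h']
  rfl

theorem csnd_d (h : i + 1 = j) (z : (Koszul.koszul A (f :: l)).X i) :
    csnd f l j ((Koszul.koszul A (f :: l)).d i j z) =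
      f • cfst f l i j h z + (Koszul.koszul A l).d i j (csnd f l i z) := by
  show ((mappingCone (kmul f l)).d i j ≫ (mappingCone.snd (kmul f l)).v j j (add_zero _)).hom z = _
  rw [mappingCone.d_snd_v (kmul f l) i j h]
  rfl

end Cone

theorem koszul_subsingleton : ∀ (l : List A) (i : ℤ), (0 < i ∨ i < -(l.length : ℤ)) →
    Subsingleton ((Koszul.koszul A l).X i) := by
  intro l
  induction l with
  | nil =>
    intro i hi
    exact ModuleCat.subsingleton_of_isZero (HomologicalComplex.isZero_single_obj_X (ComplexShape.up ℤ) 0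
      (ModuleCat.of A A) i (by simp at hi; omega))
  | cons f l ih =>
    intro i hi
    haveI := ih (i + 1) (by simp at hi; omega)
    haveI := ih i (by simp at hi; omega)
    exact ⟨fun z w => ckos_ext rfl (Subsingleton.elim _ _) (Subsingleton.elim _ _)⟩

theorem koszul_free : ∀ (l : List A) (i : ℤ), Module.Free A ((Koszul.koszul A l).X i) := by
  intro l
  induction l with
  | nil =>
    intro i
    by_cases hi : i = 0
    · subst hi
      exact Module.Free.of_equiv (HomologicalComplex.singleObjXSelf (ComplexShape.up ℤ) 0 (ModuleCat.of A A)).symm.toLinearEquiv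
    · haveI := koszul_subsingleton ([] : List A) i (by simp; omega)
      exact Module.Free.of_subsingleton A _
  | cons f l ih =>
    intro i
    haveI := ih i
    haveI := ih (i + 1)
    exact Module.Free.of_equiv
      (LinearEquiv.ofLinear ((cinl f l i (i + 1) rfl).coprod (cinr f l i))
        ((cfst f l i (i + 1) rfl).prod (csnd f l i))
        (LinearMap.ext fun z => ckos_decomp rfl z)
        (LinearMap.ext fun z => by refine Prod.ext ?_ ?_ <;> simp))

theorem koszul_d_mem : ∀ (l : List A) (i j : ℤ) (z : (Koszul.koszul A l).X i),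
    (Koszul.koszul A l).d i j z ∈ Ideal.ofList l • (⊤ : Submodule A ((Koszul.koszul A l).X j)) := by
  intro l
  induction l with
  | nil =>
    intro i j z
    rw [show (Koszul.koszul A ([] : List A)).d i j = 0 from rfl]
    simp
  | cons f l ih =>
    intro i j z
    by_cases h : i + 1 = j
    swap
    · rw [(Koszul.koszul A (f :: l)).shape i j h]; simp
    rw [← ckos_decomp (rfl : j + 1 = _) ((Koszul.koszul A (f :: l)).d i j z)]
    have hle : Ideal.ofList l ≤ Ideal.ofList (f :: l) := Ideal.span_mono fun a ha => List.mem_cons_of_mem _ ha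
    have key : ∀ {M N : Type u} [AddCommGroup M] [Module A M] [AddCommGroup N] [Module A N] (g : M →ₗ[A] N) {m : M},
        m ∈ Ideal.ofList (f :: l) • (⊤ : Submodule A M) → g m ∈ Ideal.ofList (f :: l) • (⊤ : Submodule A N) :=
      fun g m hm => (Submodule.map_smul'' _ _ g).le.trans (Submodule.smul_mono le_rfl le_top) ⟨m, hm, rfl⟩
    refine add_mem (key _ ?_) (key _ ?_)
    · rw [cfst_d h]
      exact neg_mem (Submodule.smul_mono_left hle (ih _ _ _))
    · rw [csnd_d h]
      exact add_mem (Submodule.smul_mem_smul (Ideal.subset_span List.mem_cons_self) trivial)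
        (Submodule.smul_mono_left hle (ih _ _ _))

theorem mem_ofList_cons {f a : A} {l : List A} :
    a ∈ Ideal.ofList (f :: l) ↔ ∃ s, ∃ b ∈ Ideal.ofList l, a = s * f + b := by
  rw [Ideal.ofList_cons, Submodule.mem_sup]
  constructor
  · rintro ⟨y, hy, b, hb, rfl⟩
    obtain ⟨s, rfl⟩ := Ideal.mem_span_singleton'.1 hy
    exact ⟨s, b, hb, rfl⟩
  · rintro ⟨s, b, hb, rfl⟩
    exact ⟨s * f, Ideal.mem_span_singleton'.2 ⟨s, rfl⟩, b, hb, rfl⟩

/-- The degree zero term, with the boundaries in it. -/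
theorem exists_aug : ∀ l : List A, ∃ τ : (Koszul.koszul A l).X 0 ≃ₗ[A] A,
    ∀ v, (∃ w, (Koszul.koszul A l).d (-1) 0 w = v) ↔ τ v ∈ Ideal.ofList l := by
  intro l
  induction l with
  | nil =>
    refine ⟨(HomologicalComplex.singleObjXSelf (ComplexShape.up ℤ) 0 (ModuleCat.of A A)).toLinearEquiv, fun v => ?_⟩
    rw [show (Koszul.koszul A ([] : List A)).d (-1) 0 = 0 from rfl, Ideal.ofList_nil, Ideal.mem_bot]
    constructor
    · rintro ⟨w, rfl⟩; simp
    · intro hv
      exact ⟨0, (LinearEquiv.injective _ (by rw [hv]; simp))⟩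
  | cons f l ih =>
    obtain ⟨τ, hτ⟩ := ih
    haveI := koszul_subsingleton l (0 + 1) (Or.inl (by norm_num))
    let σ : (Koszul.koszul A (f :: l)).X 0 ≃ₗ[A] (Koszul.koszul A l).X 0 :=
      LinearEquiv.ofLinear (csnd f l 0) (cinr f l 0) (LinearMap.ext fun a => csnd_cinr a)
        (LinearMap.ext fun z => ckos_ext (rfl : (0 : ℤ) + 1 = 0 + 1) (Subsingleton.elim _ _) (by simp))
    refine ⟨σ.trans τ, fun v => ?_⟩
    rw [mem_ofList_cons]
    show _ ↔ ∃ s, ∃ b ∈ Ideal.ofList l, τ (csnd f l 0 v) = s * f + b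
    constructor
    · rintro ⟨w, rfl⟩
      rw [csnd_d (show (-1 : ℤ) + 1 = 0 by norm_num), map_add, map_smul]
      exact ⟨τ (cfst f l (-1) 0 (by norm_num) w), _, (hτ _).1 ⟨_, rfl⟩, by rw [smul_eq_mul, mul_comm]⟩
    · rintro ⟨s, b, hb, hv⟩
      obtain ⟨w, hw⟩ := (hτ (τ.symm b)).2 (by rwa [LinearEquiv.apply_symm_apply])
      refine ⟨cinl f l (-1) 0 (by norm_num) (τ.symm s) + cinr f l (-1) w,
        ckos_ext (rfl : (0 : ℤ) + 1 = 0 + 1) (Subsingleton.elim _ _) ?_⟩
      rw [csnd_d (show (-1 : ℤ) + 1 = 0 by norm_num)]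
      simp only [map_add, cfst_cinl, cfst_cinr, csnd_cinl, csnd_cinr, add_zero, zero_add, hw]
      apply τ.injective
      rw [map_add, map_smul, τ.apply_symm_apply, τ.apply_symm_apply, hv, smul_eq_mul, mul_comm]

/-- An element killing the colon ideals along the list kills the negative cohomology, up to powers. -/
theorem exists_pow_smul_homology_le (c : A) : ∀ l : List A,
    (∀ (f : A) (l' : List A), (f :: l') <:+ l → ∀ a, f * a ∈ Ideal.ofList l' → c * a ∈ Ideal.ofList l') →
    ∃ N : ℕ, N ≤ 2 ^ l.length - 1 ∧ ∀ i : ℤ, i < 0 → ∀ j, i + 1 = j → ∀ h, h + 1 = i → ∀ z : (Koszul.koszul A l).X i,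
      (Koszul.koszul A l).d i j z = 0 → ∃ w, (Koszul.koszul A l).d h i w = c ^ N • z := by
  intro l
  induction l with
  | nil =>
    refine fun _ => ⟨0, by simp, fun i hi j _ h _ z _ => ⟨0, ?_⟩⟩
    haveI := koszul_subsingleton ([] : List A) i (Or.inr (by simpa using hi))
    exact Subsingleton.elim _ _
  | cons f l ih =>
    intro hc
    obtain ⟨N, hNle, hN⟩ := ih fun g l' hl => hc g l' (hl.trans (List.suffix_cons f l))
    refine ⟨N + (N + 1), by have := Nat.one_le_two_pow (n := l.length); simp [pow_succ] at hNle ⊢; omega, fun i hi j hij h hhi z hz => ?_⟩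
    have hd1 : (Koszul.koszul A l).d j (j + 1) (cfst f l i j hij z) = 0 := by
      have := cfst_d hij rfl z
      rw [hz, map_zero] at this
      exact neg_eq_zero.1 this.symm
    have hd2 : f • cfst f l i j hij z + (Koszul.koszul A l).d i j (csnd f l i z) = 0 := by
      rw [← csnd_d hij, hz, map_zero]
    obtain ⟨a', ha'⟩ : ∃ a', (Koszul.koszul A l).d i j a' = c ^ (N + 1) • cfst f l i j hij z := by
      by_cases hj : j < 0
      · obtain ⟨w, hw⟩ := hN j hj (j + 1) rfl i hij _ hd1
        exact ⟨c • w, by rw [map_smul, hw, smul_smul, pow_succ']⟩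
      · obtain rfl : j = 0 := by omega
        obtain rfl : i = -1 := by omega
        obtain ⟨τ, hτ⟩ := exists_aug l
        have h1 : f * τ (cfst f l (-1) 0 hij z) ∈ Ideal.ofList l := by
          rw [← smul_eq_mul, ← map_smul]
          exact (hτ _).1 ⟨-csnd f l (-1) z, by rw [map_neg]; exact (eq_neg_of_add_eq_zero_left hd2).symm⟩
        obtain ⟨w, hw⟩ := (hτ (c • cfst f l (-1) 0 hij z)).2 (by
          rw [map_smul, smul_eq_mul]
          exact hc f l List.suffix_rfl _ h1)
        exact ⟨c ^ N • w, by rw [map_smul, hw, smul_smul, pow_succ]⟩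
    obtain ⟨b', hb'⟩ := hN i hi j hij h hhi (c ^ (N + 1) • csnd f l i z + f • a') (by
      rw [map_add, map_smul, map_smul, ha', eq_neg_of_add_eq_zero_right hd2, smul_neg, smul_comm f, neg_add_cancel])
    refine ⟨c ^ N • cinl f l h i hhi (-a') + cinr f l h b', ckos_ext hij ?_ ?_⟩
    · rw [cfst_d hhi hij]
      simp only [map_add, map_smul, map_neg, cfst_cinl, cfst_cinr, add_zero, smul_neg, neg_neg, ha', smul_smul,
        ← pow_add]
    · rw [csnd_d hhi]
      simp only [map_add, map_smul, map_neg, cfst_cinl, cfst_cinr, csnd_cinl, csnd_cinr, add_zero, zero_add,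
        smul_zero, neg_zero, hb', smul_neg, smul_add, smul_smul, ← pow_add, mul_comm f (c ^ N)]
      abel

section Frob

variable {B : Type u} [CommRing B] (ψ : A →+* B)

/-- The semilinear comparison of Koszul complexes along a ring map. -/
theorem exists_nu : ∀ l : List A,
    ∃ ν : ∀ i : ℤ, (Koszul.koszul A l).X i →ₛₗ[ψ] (Koszul.koszul B (l.map ψ)).X i,
      (∀ i j z, (Koszul.koszul B (l.map ψ)).d i j (ν i z) = ν j ((Koszul.koszul A l).d i j z)) ∧
      ∃ (e : (Koszul.koszul A l).X (-(l.length : ℤ)))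
        (τ : (Koszul.koszul B (l.map ψ)).X (-(l.length : ℤ)) →ₗ[B] B), τ (ν _ e) = 1 := by
  intro l
  induction l with
  | nil =>
    let s : (Koszul.koszul A ([] : List A)).X 0 ≃ₗ[A] A :=
      (HomologicalComplex.singleObjXSelf (ComplexShape.up ℤ) 0 (ModuleCat.of A A)).toLinearEquiv
    let t : (Koszul.koszul B ([] : List B)).X 0 ≃ₗ[B] B :=
      (HomologicalComplex.singleObjXSelf (ComplexShape.up ℤ) 0 (ModuleCat.of B B)).toLinearEquiv
    let ν0 : (Koszul.koszul A ([] : List A)).X 0 →ₛₗ[ψ] (Koszul.koszul B ([] : List B)).X 0 :=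
      { toFun := fun z => t.symm (ψ (s z))
        map_add' := fun a b => by rw [map_add, map_add, map_add]
        map_smul' := fun r z => by rw [map_smul, smul_eq_mul, map_mul, ← smul_eq_mul, map_smul] }
    refine ⟨fun i => if h : i = 0 then h ▸ ν0 else 0, fun i j z => ?_, ?_⟩
    · rw [show (Koszul.koszul A ([] : List A)).d i j = 0 from rfl,
        show (Koszul.koszul B (([] : List A).map ψ)).d i j = 0 from rfl]
      simp
    · refine ⟨s.symm 1, t.toLinearMap, ?_⟩
      show t (ν0 (s.symm 1)) = 1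
      show t (t.symm (ψ (s (s.symm 1)))) = 1
      simp
  | cons f l ih =>
    obtain ⟨ν, hν, e, τ, hτ⟩ := ih
    let ν' : ∀ i : ℤ, (Koszul.koszul A (f :: l)).X i →ₛₗ[ψ] (Koszul.koszul B (ψ f :: l.map ψ)).X i := fun i =>
      ((cinl (ψ f) (l.map ψ) i (i + 1) rfl).comp ((ν (i + 1)).comp (cfst f l i (i + 1) rfl))) +
        ((cinr (ψ f) (l.map ψ) i).comp ((ν i).comp (csnd f l i)))
    have hfst : ∀ i j (h : i + 1 = j) z, cfst (ψ f) (l.map ψ) i j h (ν' i z) = ν j (cfst f l i j h z) := by
      rintro i _ rfl z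
      simp [ν']
    have hsnd : ∀ i z, csnd (ψ f) (l.map ψ) i (ν' i z) = ν i (csnd f l i z) := fun i z => by simp [ν']
    refine ⟨ν', fun i j z => ?_, ?_⟩
    · by_cases h : i + 1 = j
      swap
      · show (Koszul.koszul B (ψ f :: l.map ψ)).d i j (ν' i z) = _
        rw [(Koszul.koszul B (ψ f :: l.map ψ)).shape i j h, (Koszul.koszul A (f :: l)).shape i j h]
        simp
      show (Koszul.koszul B (ψ f :: l.map ψ)).d i j (ν' i z) = _
      refine ckos_ext (rfl : j + 1 = _) ?_ ?_
      · rw [cfst_d h, hfst _ _ h, hν, ← map_neg, ← cfst_d h]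
        exact (hfst j (j + 1) rfl _).symm
      · rw [csnd_d h, hfst _ _ h, hsnd, hν, ← LinearMap.map_smulₛₗ, ← map_add, ← csnd_d h]
        exact (hsnd j _).symm
    · have h : (-((f :: l).length : ℤ)) + 1 = -(l.length : ℤ) := by simp
      refine ⟨cinl f l _ _ h e, τ.comp (cfst (ψ f) (l.map ψ) _ _ h), ?_⟩
      show τ (cfst (ψ f) (l.map ψ) _ _ h (ν' _ _)) = 1
      rw [hfst _ _ h, cfst_cinl, hτ]

end Frob

end Groth.Agent.CECharPLib
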